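import Cfsg.Agent.ReeAbelian.Sylow
import Cfsg.Agent.ReeInvolveThree.TorusTools
import Mathlib.GroupTheory.Transfer
import Mathlib.GroupTheory.FixedPointFree

/-!
Groups of Ree type: a subgroup of index `q³ + 1` with a normal Sylow 3-subgroup and abelian quotient.

The torus `H = ⟨t⟩ × T` of order `q - 1` contains the centralizers of its elements other than `1, t`. A maximal
`H`-invariant 3-subgroup above a Sylow 3-subgroup of `C(t)` is a Sylow 3-subgroup: the transfer of its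
normalizer to `H` has a kernel on which `t` fixes only elements of the subgroup.
-/

set_option autoImplicit false
set_option linter.unusedSectionVars false
set_option linter.style.haveILetI false

namespace Cfsg.Lib.NoTwoTrans

open Subgroup
open Cfsg.Lib.ReeAb (Base)

universe u

variable {G : Type u} [Group G] [Finite G] {t : G} {E : Subgroup G} {q : ℕ}

/-- `q - 1` is prime to `5`. -/
theorem five_not_dvd_pred (m : ℕ) : ¬ 5 ∣ 3 ^ (2 * m + 1) - 1 := by
  have h : 3 ^ (2 * m + 1) % 5 = 3 ∨ 3 ^ (2 * m + 1) % 5 = 2 := by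
    induction m with
    | zero => left; rfl
    | succ n ih =>
      rw [show 2 * (n + 1) + 1 = (2 * n + 1) + 2 by ring, pow_add, Nat.mul_mod]
      rcases ih with e | e <;> rw [e] <;> decide
  intro hd
  have h1 : 1 ≤ 3 ^ (2 * m + 1) := Nat.one_le_pow _ _ (by norm_num)
  omega

/-- The Sylow 3-subgroup of `E` and the torus of order `q - 1`. -/
structure Torus (t : G) (q : ℕ) (U H : Subgroup G) : Prop where
  three : IsPGroup 3 U
  card_U : Nat.card U = q
  comm_U : ∀ x ∈ U, Commute x t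
  card_H : Nat.card H = q - 1
  comm : ∀ a ∈ H, ∀ b ∈ H, Commute a b
  mem_t : t ∈ H
  invol : ∀ h ∈ H, h * h = 1 → h = 1 ∨ h = t
  norm_U : ∀ h ∈ H, ∀ x ∈ U, h * x * h⁻¹ ∈ U
  cen : ∀ a ∈ H, a ≠ 1 → a ≠ t → ∀ x : G, Commute x a → x ∈ H
  decomp : ∀ n : G, Commute n t → (∀ x ∈ U, n * x * n⁻¹ ∈ U) → ∃ u ∈ U, ∃ h ∈ H, n = u * h

/-- The torus exists. -/
theorem exists_torus (B : Base t E q) : ∃ U H : Subgroup G, Torus t q U H := by
  classical
  haveI : Fact (Nat.Prime 3) := ⟨Nat.prime_three⟩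
  obtain ⟨A, C', D, hA, hC', -, -, hAo, hCo, -, hA3, -, -, hAC, -⟩ := B.parts
  have hq := B.q_ge
  obtain ⟨P₀⟩ := (inferInstance : Nonempty (Sylow 3 E))
  obtain ⟨T, hTN, hTcyc, hTc, hTcen, -⟩ := B.psl.torus P₀
  have hTA : Nat.card T = A := by omega
  set U := (P₀ : Subgroup E).map E.subtype with hU
  set T' := T.map E.subtype with hT'
  have hT'E : T' ≤ E := map_subtype_le _
  have hT'c : Nat.card T' = A := by rw [hT', card_map_of_injective E.subtype_injective, hTA]
  have htT : ∀ e ∈ T', Commute t e := fun e he => B.comm e (hT'E he)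
  have hTT : ∀ a ∈ T', ∀ b ∈ T', Commute a b := by
    rintro _ ⟨a, ha, rfl⟩ _ ⟨b, hb, rfl⟩
    haveI := hTcyc
    exact congrArg (fun z : T => ((z : E) : G)) (IsMulCommutative.is_comm.comm (⟨a, ha⟩ : T) ⟨b, hb⟩)
  have hodd : ∀ e ∈ T', e * e = 1 → e = 1 := fun e he h =>
    Ree.eq_one_of_odd_sq (hAo.of_dvd_nat (hT'c ▸ T'.orderOf_dvd_natCard he)) h
  have hcenE : ∀ a ∈ T', a ≠ 1 → ∀ x ∈ E, Commute x a → x ∈ T' := by
    rintro _ ⟨a, ha, rfl⟩ ha1 x hx hxa
    refine ⟨⟨x, hx⟩, (hTcen a ha fun h => ha1 (by rw [h]; rfl)).le (mem_centralizer_singleton_iff.2 ?_), rfl⟩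
    exact Subtype.ext hxa.eq
  let H : Subgroup G :=
    { carrier := {h | ∃ e ∈ T', h = e ∨ h = t * e}
      one_mem' := ⟨1, one_mem _, Or.inl rfl⟩
      mul_mem' := by
        rintro _ _ ⟨e, he, r⟩ ⟨e', he', r'⟩
        have hc : Commute t e := htT e he
        refine ⟨e * e', mul_mem he he', ?_⟩
        rcases r with rfl | rfl <;> rcases r' with rfl | rfl
        · exact Or.inl rfl
        · exact Or.inr (by rw [← mul_assoc, ← hc.eq, mul_assoc])
        · exact Or.inr (mul_assoc _ _ _)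
        · exact Or.inl (by rw [mul_assoc, ← mul_assoc e, ← hc.eq, mul_assoc, ← mul_assoc t, B.tt, one_mul])
      inv_mem' := by
        rintro h ⟨e, he, r | r⟩ <;> rw [r]
        · exact ⟨e⁻¹, inv_mem he, Or.inl rfl⟩
        · exact ⟨e⁻¹, inv_mem he, Or.inr (by
            rw [_root_.mul_inv_rev, inv_eq_of_mul_eq_one_right B.tt, ((htT e he).inv_right).eq])⟩ }
  have hHmem : ∀ h, h ∈ H ↔ ∃ e ∈ T', h = e ∨ h = t * e := fun h => Iff.rfl
  have hHt : ∀ h ∈ H, Commute h t := by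
    rintro h ⟨e, he, r | r⟩ <;> rw [r]
    · exact (htT e he).symm
    · exact (Commute.refl t).mul_left (htT e he).symm
  have hHc : Nat.card H = q - 1 := by
    have h1 : Nat.card H = Nat.card (Bool × T') := (Nat.card_congr (Equiv.ofBijective
      (fun p : Bool × T' => (⟨bif p.1 then t * (p.2 : G) else (p.2 : G), p.2, p.2.2, by
        cases p.1 <;> simp⟩ : H)) ⟨fun a b h => ?_, ?_⟩)).symm
    · rw [h1, Nat.card_prod, hT'c]
      simp
      omega
    · obtain ⟨x, e⟩ := a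
      obtain ⟨y, e'⟩ := b
      have h' := congrArg Subtype.val h
      cases x <;> cases y <;> simp only [cond_false, cond_true] at h'
      · rw [Subtype.ext h']
      · exact absurd (hT'E (show t ∈ T' by
          rw [show t = (e : G) * (e' : G)⁻¹ by rw [h', mul_inv_cancel_right]]
          exact mul_mem e.2 (inv_mem e'.2))) B.disj
      · exact absurd (hT'E (show t ∈ T' by
          rw [show t = (e' : G) * (e : G)⁻¹ by rw [← h', mul_inv_cancel_right]]
          exact mul_mem e'.2 (inv_mem e.2))) B.disj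
      · rw [Subtype.ext (mul_left_cancel h')]
    · rintro ⟨h, e, he, r⟩
      rcases r with r | r
      · exact ⟨(false, ⟨e, he⟩), Subtype.ext r.symm⟩
      · exact ⟨(true, ⟨e, he⟩), Subtype.ext r.symm⟩
  -- elements of prime order of the odd part
  have hprime : ∀ r, r.Prime → ∀ a ∈ T', orderOf a = r → ∀ x : G, Commute x a → Commute x t := by
    intro r hr a ha hao x hx
    haveI : Fact r.Prime := ⟨hr⟩
    have hrA : r ∣ A := hao ▸ hT'c ▸ T'.orderOf_dvd_natCard ha
    have hrd : r ∣ (q - 1) / 2 := by rwa [show (q - 1) / 2 = A by omega]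
    have hHC : H ≤ centralizer ({a} : Set G) := by
      rintro h ⟨e, he, r' | r'⟩ <;> refine mem_centralizer_singleton_iff.2 ?_ <;> rw [r']
      · exact (hTT e he a ha).eq
      · exact ((htT a ha).mul_left (hTT e he a ha)).eq
    have hd := B.cen_A hr hrd hao
    rw [show (q - 1) / 2 = A by omega, show (q + 1) / 4 = C' by omega] at hd
    have hco : Nat.Coprime (Nat.card (centralizer ({a} : Set G))) C' := Nat.coprime_of_dvd fun s hs h1 h2 => by
      haveI : Fact s.Prime := ⟨hs⟩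
      obtain ⟨⟨y, hy⟩, hyo⟩ := exists_prime_orderOf_dvd_card' (G := centralizer ({a} : Set G)) s h1
      rw [Subgroup.orderOf_mk] at hyo
      have hay : a ∈ centralizer ({y} : Set G) :=
        mem_centralizer_singleton_iff.2 (mem_centralizer_singleton_iff.1 hy).symm
      have h3 := (hao ▸ Subgroup.orderOf_dvd_natCard _ hay).trans
        (B.cen_C hs (show s ∣ (q + 1) / 4 by rwa [show (q + 1) / 4 = C' by omega]) hyo)
      have hr2 : r ≠ 2 := fun e => Nat.not_even_iff_odd.2 hAo (even_iff_two_dvd.2 (e ▸ hrA))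
      rcases hr.dvd_mul.1 h3 with h3 | h3
      · rcases hr.dvd_mul.1 (show r ∣ 2 ^ 3 * (3 * 5) from h3) with h4 | h4
        · exact hr2 ((Nat.prime_dvd_prime_iff_eq hr Nat.prime_two).1 (hr.dvd_of_dvd_pow h4))
        · rcases hr.dvd_mul.1 h4 with h5 | h5
          · exact hA3 ((Nat.prime_dvd_prime_iff_eq hr Nat.prime_three).1 h5 ▸ hrA)
          · have h5' := (Nat.prime_dvd_prime_iff_eq hr (by norm_num : Nat.Prime 5)).1 h5
            obtain ⟨m, -, hm⟩ := B.q_eq
            exact five_not_dvd_pred m (hm ▸ hA ▸ (h5' ▸ hrA).mul_left 2)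
      · have hC4 : r ∣ 4 * C' := hC' ▸ h3
        rcases hr.dvd_mul.1 hC4 with h4 | h4
        · exact hr2 ((Nat.prime_dvd_prime_iff_eq hr Nat.prime_two).1 (hr.dvd_of_dvd_pow (show r ∣ 2 ^ 2 from h4)))
        · exact hr.not_dvd_one (hAC.gcd_eq_one ▸ Nat.dvd_gcd hrA h4)
    have hle : Nat.card (centralizer ({a} : Set G)) ≤ Nat.card H := by
      refine Nat.le_of_dvd Nat.card_pos ?_
      rw [hHc, hA]
      exact hco.dvd_of_dvd_mul_right hd
    exact hHt x ((Subgroup.eq_of_le_of_card_ge hHC hle).ge (mem_centralizer_singleton_iff.2 hx.eq))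
  -- the centralizers
  have hcen : ∀ a ∈ T', a ≠ 1 → ∀ x : G, Commute x a → x ∈ H := by
    intro a ha ha1 x hx
    obtain ⟨r, hr, hrd⟩ := Nat.exists_prime_and_dvd (n := orderOf a) (mt orderOf_eq_one_iff.1 ha1)
    haveI : Fact r.Prime := ⟨hr⟩
    obtain ⟨⟨b, hb⟩, hbo⟩ := exists_prime_orderOf_dvd_card' (G := zpowers a) r (by rwa [Nat.card_zpowers])
    rw [Subgroup.orderOf_mk] at hbo
    have hxb : Commute x b := by
      obtain ⟨i, rfl⟩ := mem_zpowers_iff.1 hb
      exact hx.zpow_right i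
    have hxt := hprime r hr b (zpowers_le.2 ha hb) hbo x hxb
    obtain ⟨e, he, r' | r'⟩ := B.split x hxt
    · exact ⟨e, hcenE a ha ha1 e he (r' ▸ hx), Or.inl r'⟩
    · refine ⟨e, hcenE a ha ha1 e he ?_, Or.inr r'⟩
      rw [show e = t * x by rw [r', ← mul_assoc, B.tt, one_mul]]
      exact (htT a ha).mul_left hx
  have hUE : ∀ x ∈ U, Commute t x := fun x hx => B.comm x (map_subtype_le _ hx)
  refine ⟨U, H, P₀.2.map _, by rw [hU, card_map_of_injective E.subtype_injective, B.psl.sylow],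
    fun x hx => (hUE x hx).symm, hHc, ?_, ⟨1, one_mem _, Or.inr (mul_one t).symm⟩, ?_, ?_, ?_, ?_⟩
  · rintro a ⟨e, he, r | r⟩ b ⟨e', he', r' | r'⟩ <;> rw [r, r']
    · exact hTT e he e' he'
    · exact (htT e he).symm.mul_right (hTT e he e' he')
    · exact (htT e' he').mul_left (hTT e he e' he')
    · exact ((Commute.refl t).mul_right (htT e' he')).mul_left ((htT e he).symm.mul_right (hTT e he e' he'))
  · rintro h ⟨e, he, r | r⟩ hh <;> rw [r] at hh ⊢
    · exact Or.inl (hodd e he hh)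
    · rw [(htT e he).symm.mul_mul_mul_comm, B.tt, one_mul] at hh
      exact Or.inr (by rw [hodd e he hh, mul_one])
  · have key : ∀ e ∈ T', ∀ x ∈ U, e * x * e⁻¹ ∈ U := by
      rintro _ ⟨a, ha, rfl⟩ _ ⟨x, hx, rfl⟩
      exact ⟨a * x * a⁻¹, (mem_normalizer_iff.1 (hTN ha) x).1 hx, rfl⟩
    rintro h ⟨e, he, r | r⟩ x hx <;> rw [r]
    · exact key e he x hx
    · rw [show t * e * x * (t * e)⁻¹ = t * (e * x * e⁻¹) * t⁻¹ by group, (hUE _ (key e he x hx)).eq,
        mul_inv_cancel_right]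
      exact key e he x hx
  · rintro a ⟨e, he, r⟩ ha1 hat x hx
    have he1 : e ≠ 1 := fun h => by
      rcases r with r | r
      · exact ha1 (r.trans h)
      · exact hat (by rw [r, h, mul_one])
    refine hcen (e * e) (mul_mem he he) (fun h => he1 (hodd e he h)) x ?_
    have h2 := hx.mul_right hx
    rcases r with r | r <;> rw [r] at h2
    · exact h2
    · rwa [(htT e he).symm.mul_mul_mul_comm, B.tt, one_mul] at h2
  · intro n hnt hn
    obtain ⟨e, he, r⟩ := B.split n hnt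
    have heN : (⟨e, he⟩ : E) ∈ normalizer ((P₀ : Subgroup E) : Set E) := by
      refine mem_normalizer_fintype fun z hz => ?_
      have h1 : e * (z : G) * e⁻¹ ∈ U := by
        have h2 := hn z ⟨z, hz, rfl⟩
        rcases r with r | r <;> rw [r] at h2
        · exact h2
        · rwa [show t * e * z * (t * e)⁻¹ = t * (e * z * e⁻¹) * t⁻¹ by group,
            (B.comm _ (mul_mem (mul_mem he z.2) (inv_mem he))).eq, mul_inv_cancel_right] at h2
      obtain ⟨w, hw, hwe⟩ := h1
      have : (⟨e, he⟩ : E) * z * (⟨e, he⟩ : E)⁻¹ = w := Subtype.ext hwe.symm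
      show (⟨e, he⟩ : E) * z * (⟨e, he⟩ : E)⁻¹ ∈ (P₀ : Subgroup E)
      rw [this]; exact hw
    set N := normalizer ((P₀ : Subgroup E) : Set E) with hN
    let f : ↥(P₀ : Subgroup E) × ↥T → N := fun p =>
      ⟨(p.1 : E) * (p.2 : E), mul_mem (le_normalizer p.1.2) (hTN p.2.2)⟩
    have hf : Function.Bijective f := by
      rw [Nat.bijective_iff_injective_and_card]
      refine ⟨fun a b h => ?_, by rw [Nat.card_prod, B.psl.sylow, hTc, B.psl.norm P₀]⟩
      have h' : (a.1 : E) * a.2 = b.1 * b.2 := congrArg Subtype.val h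
      have ee : (b.1 : E)⁻¹ * a.1 = b.2 * (a.2 : E)⁻¹ := by
        rw [eq_mul_inv_iff_mul_eq, mul_assoc, h', inv_mul_cancel_left]
      have h1 : (b.1 : E)⁻¹ * a.1 = 1 := by
        rw [← orderOf_eq_one_iff]
        refine Nat.eq_one_of_dvd_coprimes (a := q) (b := A) ?_ ?_ ?_
        · obtain ⟨m, -, hm⟩ := B.q_eq
          rw [hm]
          exact (Nat.prime_three.coprime_iff_not_dvd.2 hA3).pow_left _
        · exact (B.psl.sylow P₀) ▸ Subgroup.orderOf_dvd_natCard _ (mul_mem (inv_mem b.1.2) a.1.2)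
        · rw [ee]; exact hTA ▸ Subgroup.orderOf_dvd_natCard _ (mul_mem b.2.2 (inv_mem a.2.2))
      refine Prod.ext (Subtype.ext (inv_mul_eq_one.1 h1).symm) (Subtype.ext ?_)
      rw [ee, mul_inv_eq_one] at h1
      exact h1.symm
    obtain ⟨⟨u, τ⟩, hp⟩ := hf.2 ⟨⟨e, he⟩, heN⟩
    have hp' : ((u : E) : G) * ((τ : E) : G) = e := congrArg (fun z : N => ((z : E) : G)) hp
    have hτ : ((τ : E) : G) ∈ T' := ⟨(τ : E), τ.2, rfl⟩
    rcases r with r | r
    · exact ⟨_, ⟨(u : E), u.2, rfl⟩, _, ⟨_, hτ, Or.inl rfl⟩, by rw [r, ← hp']; rfl⟩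
    · refine ⟨_, ⟨(u : E), u.2, rfl⟩, _, ⟨_, hτ, Or.inr rfl⟩, ?_⟩
      have hc : Commute t ((u : E) : G) := hUE _ ⟨(u : E), u.2, rfl⟩
      rw [r, ← hp']
      show t * (((u : E) : G) * ((τ : E) : G)) = ((u : E) : G) * (t * ((τ : E) : G))
      rw [← mul_assoc, hc.eq, mul_assoc]

/-- An element of 3-power order whose order divides `q - 1` is trivial. -/
theorem eq_one_three (B : Base t E q) {x : G} {k : ℕ} (hx : orderOf x = 3 ^ k) (hd : orderOf x ∣ q - 1) : x = 1 := by
  rw [← orderOf_eq_one_iff]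
  refine Nat.eq_one_of_dvd_coprimes ?_ (dvd_of_eq hx) hd
  refine (Nat.prime_three.coprime_iff_not_dvd.2 ?_).pow_left k
  have := B.three_dvd_q
  have := B.q_ge
  omega

variable {U H : Subgroup G}

/-- An invariant 3-subgroup above `U` that is not a Sylow subgroup has a larger one above it. -/
theorem Torus.step (B : Base t E q) (Z : Torus t q U H) {R : Subgroup G} (hR : IsPGroup 3 R) (hUR : U ≤ R)
    (hHR : H ≤ normalizer (R : Set G)) (hcard : Nat.card R ≠ q ^ 3) :
    ∃ R' : Subgroup G, IsPGroup 3 R' ∧ U ≤ R' ∧ H ≤ normalizer (R' : Set G) ∧ Nat.card R < Nat.card R' := by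
  classical
  haveI : Fact (Nat.Prime 3) := ⟨Nat.prime_three⟩
  haveI : Fact (Nat.Prime 2) := ⟨Nat.prime_two⟩
  have hq := B.q_ge
  have hfixU : ∀ y ∈ R, Commute y t → y ∈ U := by
    have he : U = R ⊓ centralizer ({t} : Set G) := by
      refine Subgroup.eq_of_le_of_card_ge (le_inf hUR fun x hx => mem_centralizer_singleton_iff.2 (Z.comm_U x hx).eq) ?_
      rw [Z.card_U]
      exact B.three_cen_le (hR.to_le inf_le_left) B.ord fun x hx => mem_centralizer_singleton_iff.1 hx.2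
    exact fun y hy hc => he.ge ⟨hy, mem_centralizer_singleton_iff.2 hc.eq⟩
  set N := normalizer (R : Set G) with hN
  have hdisj : ∀ x ∈ R, x ∈ H → x = 1 := fun x hx hxH => by
    obtain ⟨k, hk⟩ := IsPGroup.iff_orderOf.1 hR ⟨x, hx⟩
    rw [Subgroup.orderOf_mk] at hk
    exact eq_one_three B hk (Z.card_H ▸ H.orderOf_dvd_natCard hxH)
  have hHt : ∀ h ∈ H, Commute h t := fun h hh => Z.comm h hh t Z.mem_t
  -- the elements of the normalizer commuting with `t`
  have hdec : ∀ n ∈ N, Commute n t → ∃ u ∈ U, ∃ h ∈ H, n = u * h := fun n hn hnt =>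
    Z.decomp n hnt fun x hx => hfixU _ ((mem_normalizer_iff.1 hn x).1 (hUR hx))
      ((hnt.mul_left (Z.comm_U x hx)).mul_left hnt.inv_left)
  have hinv2 : ∀ x ∈ N, Commute x t → x * x = 1 → x = 1 ∨ x = t := by
    intro x hx hxt hxx
    obtain ⟨u, hu, h, hh, rfl⟩ := hdec x hx hxt
    have e : u * (h * u * h⁻¹) * (h * h) = 1 := by
      rw [show u * (h * u * h⁻¹) * (h * h) = u * h * (u * h) by group]; exact hxx
    have hhh : h * h = 1 := hdisj _ (by
      rw [eq_inv_of_mul_eq_one_right e]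
      exact inv_mem (mul_mem (hUR hu) (hUR (Z.norm_U h hh u hu)))) (mul_mem hh hh)
    rcases Z.invol h hh hhh with rfl | rfl
    · rw [mul_one] at hxx ⊢
      exact Or.inl (Ree.eq_one_of_odd_sq ((ReeAb.odd_card_of_three hR).of_dvd_nat (R.orderOf_dvd_natCard (hUR hu))) hxx)
    · rw [(Z.comm_U u hu).symm.mul_mul_mul_comm, B.tt, mul_one] at hxx
      exact Or.inr (by
        rw [Ree.eq_one_of_odd_sq ((ReeAb.odd_card_of_three hR).of_dvd_nat (R.orderOf_dvd_natCard (hUR hu))) hxx,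
          one_mul])
  -- conjugate elements of `H` are equal
  have hfus : ∀ a ∈ H, ∀ g ∈ N, g⁻¹ * a * g ∈ H → g⁻¹ * a * g = a := by
    intro a ha g hg hb
    set b := g⁻¹ * a * g with hbdef
    by_cases ha1 : a = 1
    · rw [hbdef, ha1]; group
    by_cases hat : a = t
    · have hb2 : b * b = 1 := by rw [hbdef, hat, show g⁻¹ * t * g * (g⁻¹ * t * g) = g⁻¹ * (t * t) * g by group, B.tt]; group
      rcases Z.invol b hb hb2 with e | e
      · exact absurd (show a = 1 by rw [show a = g * b * g⁻¹ by rw [hbdef]; group, e]; group) ha1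
      · rw [e, hat]
    have hs : g * t * g⁻¹ ∈ H := Z.cen a ha ha1 hat _ (by
      have h := (hHt b hb).symm.map (MulAut.conj g).toMonoidHom
      have e : g * b * g⁻¹ = a := by rw [hbdef]; group
      exact e ▸ h)
    have hst : g * t * g⁻¹ = t := (Z.invol _ hs (by
      rw [show g * t * g⁻¹ * (g * t * g⁻¹) = g * (t * t) * g⁻¹ by group, B.tt]; group)).resolve_left fun e =>
        B.t_ne (by rwa [mul_inv_eq_one, mul_eq_left] at e)
    obtain ⟨u, hu, h, hh, hgu⟩ := hdec g hg (mul_inv_eq_iff_eq_mul.1 hst)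
    have e1 : u⁻¹ * a * u = b := by
      have hc : h * b * h⁻¹ = b := mul_inv_eq_iff_eq_mul.2 (Z.comm h hh b hb).eq
      calc u⁻¹ * a * u = h * (g⁻¹ * a * g) * h⁻¹ := by rw [hgu]; group
        _ = b := hc
    have e2 : a⁻¹ * b = 1 := hdisj _ (by
      rw [← e1, show a⁻¹ * (u⁻¹ * a * u) = (a⁻¹ * u⁻¹ * a) * u by group]
      refine mul_mem ?_ (hUR hu)
      have := Z.norm_U a⁻¹ (inv_mem ha) u⁻¹ (inv_mem hu)
      rw [inv_inv] at this
      exact hUR this) (mul_mem (inv_mem ha) hb)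
    exact (inv_mul_eq_one.1 e2).symm
  -- the transfer
  set H' : Subgroup N := H.subgroupOf N with hH'
  haveI hH'c : IsMulCommutative H' :=
    ⟨⟨fun a b => Subtype.ext (Subtype.ext (Z.comm _ (mem_subgroupOf.1 a.2) _ (mem_subgroupOf.1 b.2)).eq)⟩⟩
  have hH'card : Nat.card H' = q - 1 := (Nat.card_congr (subgroupOfEquivOfLe hHR).toEquiv).trans Z.card_H
  have hfour : ¬ 4 ∣ Nat.card N := by
    intro h4
    have htN : t ∈ N := hHR Z.mem_t
    obtain ⟨S, hS⟩ := (IsPGroup.of_card (p := 2) (n := 1) (G := zpowers (⟨t, htN⟩ : N))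
      (by rw [Nat.card_zpowers, Subgroup.orderOf_mk, B.ord, pow_one])).exists_le_sylow
    obtain ⟨R2, hR2⟩ := (S.2.map N.subtype).exists_le_sylow
    haveI := B.two_comm R2
    have h4S : 4 ∣ Nat.card (S : Subgroup N) := S.pow_dvd_card_of_pow_dvd_card (n := 2) h4
    have hall : ∀ b : (S : Subgroup N), ((b : N) : G) = 1 ∨ ((b : N) : G) = t := fun b => by
      have hbR : ((b : N) : G) ∈ (R2 : Subgroup G) := hR2 (mem_map_of_mem N.subtype b.2)
      have htR : t ∈ (R2 : Subgroup G) := hR2 (mem_map_of_mem N.subtype (hS (mem_zpowers (⟨t, htN⟩ : N))))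
      obtain ⟨i, hi⟩ := IsPGroup.iff_orderOf.1 S.2 b
      exact hinv2 _ (b : N).2
        (congrArg Subtype.val (mul_comm' (⟨_, hbR⟩ : (R2 : Subgroup G)) ⟨t, htR⟩))
        (B.two_sq _ ⟨i, by rw [orderOf_coe, orderOf_coe]; exact hi⟩)
    have : Nat.card (S : Subgroup N) ≤ 2 := by
      refine (Nat.card_le_card_of_injective (fun b : (S : Subgroup N) => (if ((b : N) : G) = 1 then 0 else 1 : Fin 2))
        fun b c h => Subtype.ext (Subtype.ext ?_)).trans (by simp)
      rcases hall b with hb | hb <;> rcases hall c with hc | hc <;> simp [hb, hc, B.t_ne] at h ⊢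
    exact absurd (Nat.le_of_dvd Nat.card_pos h4S) (by omega)
  have hcop : Nat.Coprime (q - 1) H'.index := by
    refine Nat.coprime_of_dvd fun r hr h1 h2 => ?_
    have hdN : r * (q - 1) ∣ Nat.card N := by
      rw [← H'.card_mul_index, hH'card, mul_comm r]
      exact Nat.mul_dvd_mul_left _ h2
    obtain ⟨A, C', D, hA, -, -, -, hAo, -⟩ := B.parts
    by_cases hr2 : r = 2
    · refine hfour (Dvd.dvd.trans ?_ hdN)
      rw [hr2, hA]
      exact ⟨A, by ring⟩
    · have hrA : r ∣ A := by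
        rcases hr.dvd_mul.1 (hA ▸ h1) with h | h
        · exact absurd ((Nat.prime_dvd_prime_iff_eq hr Nat.prime_two).1 h) hr2
        · exact h
      have hd : r ^ (A.factorization r + 1) ∣ Nat.card G := by
        refine Dvd.dvd.trans ?_ (card_subgroup_dvd_card N)
        refine Dvd.dvd.trans ?_ hdN
        rw [pow_succ', hA]
        exact Nat.mul_dvd_mul_left r ((Nat.ordProj_dvd A r).mul_left 2)
      have h3 := (hr.pow_dvd_iff_le_factorization Nat.card_pos.ne').1 hd
      rw [(B.factorization_eq hr).1 (show r ∣ (q - 1) / 2 by rwa [show (q - 1) / 2 = A by omega]),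
        show (q - 1) / 2 = A by omega] at h3
      omega
  obtain ⟨F, hFn, hFH, hF3⟩ : ∃ F : Subgroup N, F.Normal ∧ (∀ x ∈ F, x ∈ H' → x = 1) ∧
      ∀ x : N, ∀ k, orderOf x = 3 ^ k → x ∈ F := by
    open scoped IsMulCommutative in
    let φ := MonoidHom.transfer (MonoidHom.id H')
    refine ⟨φ.ker, inferInstance, fun x hx hxH => ?_, fun x k hk => ?_⟩
    · have key : ∀ (i : ℕ) (g₀ : N), g₀⁻¹ * x ^ i * g₀ ∈ H' → g₀⁻¹ * x ^ i * g₀ = x ^ i := fun i g₀ hi => by
        refine Subtype.ext ?_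
        have := hfus _ (mem_subgroupOf.1 (pow_mem hxH i)) g₀ g₀.2 (by simpa using mem_subgroupOf.1 hi)
        simpa using this
      have h := MonoidHom.transfer_eq_pow (MonoidHom.id H') x key
      rw [show MonoidHom.transfer (MonoidHom.id H') x = 1 from hx] at h
      have h' : x ^ H'.index = 1 := (congrArg Subtype.val h).symm
      rw [← orderOf_eq_one_iff]
      exact Nat.eq_one_of_dvd_coprimes hcop (hH'card ▸ H'.orderOf_dvd_natCard hxH) (orderOf_dvd_of_pow_eq_one h')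
    · refine MonoidHom.mem_ker.2 (orderOf_eq_one_iff.1 ?_)
      refine Nat.eq_one_of_dvd_coprimes ?_ ((orderOf_map_dvd φ x).trans (dvd_of_eq hk))
        (hH'card ▸ orderOf_dvd_natCard (φ x))
      refine (Nat.prime_three.coprime_iff_not_dvd.2 ?_).pow_left k
      have := B.three_dvd_q
      omega
  haveI := hFn
  have hFR : ∀ x : N, (x : G) ∈ R → x ∈ F := fun x hx => by
    obtain ⟨k, hk⟩ := IsPGroup.iff_orderOf.1 hR ⟨(x : G), hx⟩
    exact hF3 x k (by rw [← Subgroup.orderOf_coe, ← hk, Subgroup.orderOf_mk])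
  have hFt : ∀ x ∈ F, Commute (x : G) t → (x : G) ∈ R := by
    intro x hx hxt
    obtain ⟨u, hu, h, hh, e⟩ := hdec x x.2 hxt
    have hhF : (⟨h, hHR hh⟩ : N) ∈ F := by
      have e' : (⟨h, hHR hh⟩ : N) = (⟨u, le_normalizer (hUR hu)⟩ : N)⁻¹ * x :=
        Subtype.ext (by simp [e])
      rw [e']
      exact F.mul_mem (F.inv_mem (hFR _ (hUR hu))) hx
    rw [e, show h = 1 from congrArg Subtype.val (hFH _ hhF (mem_subgroupOf.2 hh)), mul_one]
    exact hUR hu
  -- `F / R` is inverted by `t`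
  set RF : Subgroup F := R.comap (N.subtype.comp F.subtype) with hRF
  haveI : RF.Normal := ⟨fun x hx f => mem_comap.2 (by
    simpa using (mem_normalizer_iff.1 (f : N).2 _).1 (mem_comap.1 hx))⟩
  set c : F →* F := (MulAut.conjNormal (⟨t, hHR Z.mem_t⟩ : N)).toMonoidHom with hc
  have hcv : ∀ x : F, (((c x : F) : N) : G) = t * ((x : N) : G) * t⁻¹ := fun x => by simp [c]
  have hcR : RF ≤ RF.comap c := fun x hx => mem_comap.2 (mem_comap.2 (by
    show (((c x : F) : N) : G) ∈ R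
    rw [hcv]
    exact (mem_normalizer_iff.1 (hHR Z.mem_t) _).1 hx))
  set ψ : F ⧸ RF →* F ⧸ RF := QuotientGroup.map RF RF c hcR with hψ
  have hψmk : ∀ x : F, ψ (x : F ⧸ RF) = ((c x : F) : F ⧸ RF) := fun x => rfl
  have hψinv : Function.Involutive ψ := fun z => by
    induction z using QuotientGroup.induction_on with
    | _ x =>
      rw [hψmk, hψmk]
      refine congrArg _ (Subtype.ext (Subtype.ext ?_))
      rw [hcv, hcv, show t * (t * ((x : N) : G) * t⁻¹) * t⁻¹ = t * t * ((x : N) : G) * (t * t)⁻¹ by group, B.tt]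
      group
  have hψfree : MonoidHom.FixedPointFree ψ := fun z hz => by
    induction z using QuotientGroup.induction_on with
    | _ x =>
      rw [hψmk] at hz
      have hr : ((x : N) : G)⁻¹ * (t * ((x : N) : G) * t⁻¹) ∈ R := by
        have h := mem_comap.1 (QuotientGroup.eq.1 hz.symm)
        simpa [hcv] using h
      set g : G := ((x : N) : G) with hg
      set r : G := g⁻¹ * (t * g * t⁻¹) with hrdef
      have hrt : t * r * t⁻¹ = r⁻¹ := by
        rw [hrdef]
        calc t * (g⁻¹ * (t * g * t⁻¹)) * t⁻¹ = (t * g * t⁻¹)⁻¹ * ((t * t) * g * (t * t)⁻¹) := by group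
          _ = (g⁻¹ * (t * g * t⁻¹))⁻¹ := by rw [B.tt]; group
      obtain ⟨s, hs, hss⟩ := Cfsg.Lib.ReeThree.exists_root
        ((ReeAb.odd_card_of_three hR).of_dvd_nat (R.orderOf_dvd_natCard hr))
      have hst : t * s * t⁻¹ = s⁻¹ := by
        obtain ⟨i, rfl⟩ := mem_zpowers_iff.1 hs
        rw [← conj_zpow, hrt, inv_zpow]
      have hsR : s ∈ R := zpowers_le.2 hr hs
      have hfix : Commute (g * s) t := by
        refine (mul_inv_eq_iff_eq_mul.1 ?_).symm
        calc t * (g * s) * t⁻¹ = (t * g * t⁻¹) * (t * s * t⁻¹) := by group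
          _ = g * r * s⁻¹ := by rw [hst, hrdef]; group
          _ = g * s := by rw [← hss]; group
      refine (QuotientGroup.eq_one_iff x).2 (mem_comap.2 ?_)
      show g ∈ R
      have h := hFt (x * ⟨s, le_normalizer hsR⟩) (F.mul_mem x.2 (hFR _ hsR)) (by simpa using hfix)
      have h' : g * s ∈ R := by simpa using h
      have h'' := R.mul_mem h' (inv_mem hsR)
      rwa [mul_inv_cancel_right] at h''
  have hab := MonoidHom.FixedPointFree.commute_all_of_involutive hψfree hψinv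
  -- the normal Sylow 3-subgroup of `F`
  have hRF3 : IsPGroup 3 RF := hR.comap_of_injective _ (N.subtype_injective.comp F.subtype_injective)
  obtain ⟨Q, hQ⟩ := hRF3.exists_le_sylow
  haveI hQn : (Q : Subgroup F).Normal := ⟨fun x hx f => by
    rw [show f * x * f⁻¹ = (f * x * f⁻¹ * x⁻¹) * x by group]
    refine (Q : Subgroup F).mul_mem (hQ ?_) hx
    rw [← QuotientGroup.eq_one_iff]
    simp only [QuotientGroup.mk_mul, QuotientGroup.mk_inv]
    rw [(hab (f : F ⧸ RF) (x : F ⧸ RF)).eq]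
    group⟩
  have hQall : ∀ x : F, ∀ k, orderOf x = 3 ^ k → x ∈ (Q : Subgroup F) := fun x k hk => by
    obtain ⟨Q', hQ'⟩ := (ReeAb.isPGroup_zpowers_three hk).exists_le_sylow
    haveI := Sylow.unique_of_normal Q hQn
    exact (Subsingleton.elim Q' Q) ▸ hQ' (mem_zpowers x)
  set R' := (Q : Subgroup F).map (N.subtype.comp F.subtype) with hR'
  have hRR' : R ≤ R' := fun y hy => ⟨⟨⟨y, le_normalizer hy⟩, hFR _ hy⟩, hQ (mem_comap.2 hy), rfl⟩
  have hmemR' : ∀ y : G, ∀ hy : y ∈ N, ∀ k, orderOf y = 3 ^ k → y ∈ R' := fun y hy k hk => by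
    have hyF : (⟨y, hy⟩ : N) ∈ F := hF3 _ k (by rw [Subgroup.orderOf_mk]; exact hk)
    exact ⟨⟨⟨y, hy⟩, hyF⟩, hQall _ k (by rw [Subgroup.orderOf_mk, Subgroup.orderOf_mk]; exact hk), rfl⟩
  have hR'3 : IsPGroup 3 R' := Q.2.map _
  have hR'N : R' ≤ N := by rintro _ ⟨x, -, rfl⟩; exact (x : N).2
  refine ⟨R', hR'3, hUR.trans hRR', fun h hh => mem_normalizer_fintype fun y hy => ?_, ?_⟩
  · obtain ⟨k, hk⟩ := IsPGroup.iff_orderOf.1 hR'3 ⟨y, hy⟩
    rw [Subgroup.orderOf_mk] at hk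
    exact hmemR' _ (mul_mem (mul_mem (hHR hh) (hR'N hy)) (inv_mem (hHR hh))) k
      (((MulAut.conj h).orderOf_eq y).trans hk)
  · obtain ⟨P, hP⟩ := hR.exists_le_sylow
    have hlt : R.subgroupOf P < ⊤ := lt_top_iff_ne_top.2 fun h => hcard (by
      rw [le_antisymm hP (subgroupOf_eq_top.1 h), B.card_sylow P])
    haveI := P.2.isNilpotent
    have hn := Group.normalizerCondition_of_isNilpotent (G := (P : Subgroup G)) _ hlt
    obtain ⟨y, hy, hyR⟩ := SetLike.exists_of_lt hn
    have hyN : (y : G) ∈ N := mem_normalizer_fintype fun z hz => by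
      have h := (mem_normalizer_iff.1 hy ⟨z, hP hz⟩).1 (mem_subgroupOf.2 hz)
      exact mem_subgroupOf.1 h
    obtain ⟨k, hk⟩ := IsPGroup.iff_orderOf.1 P.2 y
    have hlt' : R < R' := lt_of_le_of_ne hRR' fun e => hyR (mem_subgroupOf.2 (e ▸ hmemR' (y : G) hyN k
      (by rw [Subgroup.orderOf_coe]; exact hk)))
    by_contra hle
    exact hlt'.ne (Subgroup.eq_of_le_of_card_ge hlt'.le (Nat.le_of_not_lt hle))

/-- A subgroup of index `q³ + 1` with a normal subgroup of order `q³` and abelian quotient. -/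
theorem exists_borel (B : Base t E q) : ∃ R K : Subgroup G, IsPGroup 3 R ∧ Nat.card R = q ^ 3 ∧ R ≤ K ∧
    (∀ a ∈ K, ∀ b ∈ K, a * b * a⁻¹ * b⁻¹ ∈ R) ∧ K.index = q ^ 3 + 1 := by
  classical
  haveI : Fact (Nat.Prime 3) := ⟨Nat.prime_three⟩
  obtain ⟨U, H, Z⟩ := exists_torus B
  let S := {R : Subgroup G // IsPGroup 3 R ∧ U ≤ R ∧ H ≤ normalizer (R : Set G)}
  haveI : Nonempty S := ⟨⟨U, Z.three, le_rfl, fun h hh => mem_normalizer_fintype fun x hx => Z.norm_U h hh x hx⟩⟩
  obtain ⟨⟨R, hR, hUR, hHR⟩, hmax⟩ := Finite.exists_max fun R : S => Nat.card R.1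
  have hRc : Nat.card R = q ^ 3 := by
    by_contra h
    obtain ⟨R', h1, h2, h3, h4⟩ := Z.step B hR hUR hHR h
    exact absurd (hmax ⟨R', h1, h2, h3⟩) (not_le.2 h4)
  have hq := B.q_ge
  have hco : Nat.Coprime (q ^ 3) (q - 1) :=
    Nat.Coprime.pow_left 3 ((Nat.coprime_self_sub_right (by omega)).2 (Nat.coprime_one_right q))
  have hK : ∀ x, x ∈ R ⊔ H → ∃ a ∈ R, ∃ h ∈ H, a * h = x := fun x hx => by
    rw [← SetLike.mem_coe, Subgroup.coe_mul_of_right_le_normalizer_left R H hHR] at hx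
    obtain ⟨a, ha, h, hh, e⟩ := hx
    exact ⟨a, ha, h, hh, e⟩
  refine ⟨R, R ⊔ H, hR, hRc, le_sup_left, fun a ha b hb => ?_, ?_⟩
  · obtain ⟨a1, ha1, h1, hh1, rfl⟩ := hK a ha
    obtain ⟨b1, hb1, h2, hh2, rfl⟩ := hK b hb
    set N := normalizer (R : Set G) with hN
    haveI : (R.subgroupOf N).Normal := normal_in_normalizer
    let A : N := ⟨a1, le_normalizer ha1⟩
    let B' : N := ⟨b1, le_normalizer hb1⟩
    let X : N := ⟨h1, hHR hh1⟩
    let Y : N := ⟨h2, hHR hh2⟩
    have key : A * X * (B' * Y) * (A * X)⁻¹ * (B' * Y)⁻¹ ∈ R.subgroupOf N := by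
      rw [← QuotientGroup.eq_one_iff]
      have eA : (A : N ⧸ R.subgroupOf N) = 1 := (QuotientGroup.eq_one_iff A).2 (mem_subgroupOf.2 ha1)
      have eB : (B' : N ⧸ R.subgroupOf N) = 1 := (QuotientGroup.eq_one_iff B').2 (mem_subgroupOf.2 hb1)
      have eXY : X * Y = Y * X := Subtype.ext (Z.comm h1 hh1 h2 hh2).eq
      simp only [QuotientGroup.mk_mul, QuotientGroup.mk_inv, eA, eB, one_mul]
      rw [← QuotientGroup.mk_mul, eXY, QuotientGroup.mk_mul]
      group
    simpa [A, B', X, Y] using mem_subgroupOf.1 key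
  · have hKc : Nat.card (R ⊔ H : Subgroup G) = q ^ 3 * (q - 1) := by
      rw [← hRc, ← Z.card_H, ← Nat.card_prod]
      refine (Nat.card_congr (Equiv.ofBijective
        (fun p : R × H => (⟨(p.1 : G) * p.2, mul_mem (mem_sup_left p.1.2) (mem_sup_right p.2.2)⟩ : (R ⊔ H : Subgroup G)))
        ⟨fun a b h => ?_, fun x => ?_⟩)).symm
      · have h' : (a.1 : G) * a.2 = b.1 * b.2 := congrArg Subtype.val h
        have ee : (b.1 : G)⁻¹ * a.1 = b.2 * (a.2 : G)⁻¹ := by
          rw [eq_mul_inv_iff_mul_eq, mul_assoc, h', inv_mul_cancel_left]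
        have h1 : (b.1 : G)⁻¹ * a.1 = 1 := by
          rw [← orderOf_eq_one_iff]
          refine Nat.eq_one_of_dvd_coprimes hco (hRc ▸ Subgroup.orderOf_dvd_natCard _ (mul_mem (inv_mem b.1.2) a.1.2)) ?_
          rw [ee]
          exact Z.card_H ▸ Subgroup.orderOf_dvd_natCard _ (mul_mem b.2.2 (inv_mem a.2.2))
        refine Prod.ext (Subtype.ext (inv_mul_eq_one.1 h1).symm) (Subtype.ext ?_)
        rw [ee, mul_inv_eq_one] at h1
        exact h1.symm
      · obtain ⟨a, ha, h, hh, e⟩ := hK x x.2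
        exact ⟨(⟨a, ha⟩, ⟨h, hh⟩), Subtype.ext e⟩
    have h := (R ⊔ H).card_mul_index
    rw [hKc, B.card, show q ^ 3 * (q ^ 3 + 1) * (q - 1) = q ^ 3 * (q - 1) * (q ^ 3 + 1) by ring] at h
    exact Nat.eq_of_mul_eq_mul_left (Nat.mul_pos (pow_pos (by omega) 3) (by omega)) h

end Cfsg.Lib.NoTwoTrans
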