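import Cfsg.Agent.NoTwoTransitive.Basic
import Cfsg.Agent.NoTwoTransitive.Borel
import Cfsg.Agent.PiHomogOdd.Main
import Cfsg.Agent.SylowEight.Main

/-!
A simple group with abelian Sylow 2-subgroups and no doubly transitive action has order 175560, given the
separation of the Janko and Ree types.
-/

set_option autoImplicit false
set_option linter.unusedSectionVars false
set_option linter.style.haveILetI false

namespace Cfsg.Lib.NoTwoTrans

open Cfsg Cfsg.Lib.Chars Subgroup

universe u v

variable {G : Type u} [Group G] [Finite G]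

/-- In the Ree configuration there is a doubly transitive action. -/
theorem ree_false [IsSimpleGroup G]
    (hno : ∀ (Ω : Type) [Fintype Ω] [MulAction G Ω] [FaithfulSMul G Ω], ¬ MulAction.IsMultiplyPretransitive G Ω 2)
    {t : G} {E : Subgroup G} {F : Type v} [Field F] [Fintype F] (H : Ree.Setting t E F) : False := by
  classical
  letI := Fintype.ofFinite G
  letI := Fintype.ofFinite E
  haveI : Fact (Nat.Prime 3) := ⟨Nat.prime_three⟩
  have B := ReeAb.Base.of_setting H
  obtain ⟨m, -, hF, -, -, -, c, -, -, -, -, -, hdc, -⟩ := ReeAb.exists_three_chars H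
  obtain ⟨R, K, hR, hRc, hRK, hcomm, hK⟩ := exists_borel B
  letI := Fintype.ofFinite R
  have hq := B.q_ge
  have hq3 : 27 ≤ Fintype.card F ^ 3 := hq.trans (Nat.le_self_pow three_ne_zero _)
  have hperf : ∀ f : G →* ℂˣ, f = 1 := by
    intro f
    rcases f.normal_ker.eq_bot_or_eq_top with h | h
    · refine absurd ⟨⟨fun a b => (MonoidHom.ker_eq_bot_iff f).1 h ?_⟩⟩ H.nab
      rw [map_mul, map_mul, mul_comm]
    · exact MonoidHom.ext fun g => MonoidHom.mem_ker.1 (h ▸ mem_top g)
  have hsum : ∑ x : R, (c : G → ℂ) x ≠ 0 := by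
    rw [Finset.sum_eq_single_of_mem (1 : R) (Finset.mem_univ _) fun x _ hx => ?_]
    · exact IsIrrCharacter.apply_one_ne_zero c.2
    obtain ⟨P⟩ := (inferInstance : Nonempty (Sylow 3 G))
    have hn : (Nat.card G).factorization 3 = (2 * m + 1) * 3 := by
      refine Nat.pow_right_injective (le_refl 2 |>.trans (by norm_num : 2 ≤ 3)) ?_
      show 3 ^ _ = 3 ^ _
      rw [← P.card_eq_multiplicity, B.card_sylow P, hF, pow_mul]
    refine eq_zero_of_defect_zero c.2 Nat.prime_three (n := (2 * m + 1) * 3) (hn ▸ Nat.ordProj_dvd _ _)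
      (hn ▸ Nat.pow_succ_factorization_not_dvd Nat.card_pos.ne' Nat.prime_three) ?_ ?_
    · rw [hdc, hF, pow_mul]
    · obtain ⟨k, hk⟩ := IsPGroup.iff_orderOf.1 hR x
      rw [Subgroup.orderOf_coe, hk]
      refine dvd_pow_self 3 fun e => hx ?_
      rw [e, pow_zero, orderOf_eq_one_iff] at hk
      exact hk
  have h2 := two_trans_of_char hperf hRK hcomm c (by rw [hdc, hK]) (by omega) hsum
  haveI : Finite (G ⧸ K) := inferInstance
  haveI : Nontrivial (G ⧸ K) := Finite.one_lt_card_iff_nontrivial.1 (by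
    rw [show Nat.card (G ⧸ K) = K.index from rfl, hK]; omega)
  exact false_of_two_trans hno (G ⧸ K) h2

/-- The statement, given the separation of the Janko and Ree types. -/
theorem main (hJR : PiHomog.JRSplit.{u}) [IsSimpleGroup G] (hG : ¬ IsMulCommutative G) (P : Sylow 2 G)
    (hP : IsMulCommutative (P : Subgroup G))
    (hno : ∀ (Ω : Type) [Fintype Ω] [MulAction G Ω] [FaithfulSMul G Ω], ¬ MulAction.IsMultiplyPretransitive G Ω 2) :
    Nat.card G = 175560 := by
  have hab := SylowEight.abTwo_of_sylow P hP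
  rcases Walter.walterProp G hG hab with ⟨F, i, j, -, ⟨e⟩⟩ | ⟨F, i, j, -, -, ⟨e⟩⟩ | h
  · exact (psl_false hno e).elim
  · exact (psl_false hno e).elim
  · rcases hJR G hG hab h with hJ | ⟨t, E, F, i, j, hS⟩
    · exact hJ.2
    · exact (ree_false hno hS).elim

end Cfsg.Lib.NoTwoTrans
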