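import Cfsg.Agent.BenderSE.Reg.CountPair
import Cfsg.Agent.Chars.SmallDegreesSylow
import Cfsg.Agent.Chars.IrrTools
import Cfsg.Agent.Chars.Clifford
import Cfsg.Agent.Chars.Galois
import Mathlib.LinearAlgebra.Projectivization.Action

/-!
A criterion for double transitivity on cosets by one irreducible character, and transport of doubly transitive
actions to a finite set in `Type`.
-/

set_option autoImplicit false
set_option linter.unusedSectionVars false
set_option linter.style.haveILetI false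

namespace Cfsg.Lib.NoTwoTrans

open Cfsg Cfsg.Lib.Chars Subgroup
open scoped ComplexConjugate

universe u v

variable {G : Type u} [Group G] [Finite G]

/-- A simple group with a doubly transitive action on a finite nontrivial set has a faithful one in `Type`. -/
theorem false_of_two_trans [IsSimpleGroup G]
    (hno : ∀ (Ω : Type) [Fintype Ω] [MulAction G Ω] [FaithfulSMul G Ω], ¬ MulAction.IsMultiplyPretransitive G Ω 2)
    (X : Type v) [Finite X] [Nontrivial X] [MulAction G X] (h : MulAction.IsMultiplyPretransitive G X 2) : False := by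
  classical
  have h2 : ∀ {a b c d : X}, a ≠ b → c ≠ d → ∃ g : G, g • a = c ∧ g • b = d :=
    fun h1 h3 => MulAction.is_two_pretransitive_iff.1 h h1 h3
  let e := Finite.equivFin X
  letI : MulAction G (Fin (Nat.card X)) :=
    MulAction.compHom _ (e.permCongrHom.toMonoidHom.comp (MulAction.toPermHom G X))
  have hsmul : ∀ (g : G) (i : Fin (Nat.card X)), g • i = e (g • e.symm i) := fun g i => rfl
  haveI : FaithfulSMul G (Fin (Nat.card X)) := by
    rcases (MulAction.toPermHom G X).normal_ker.eq_bot_or_eq_top with hk | hk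
    · refine faithfulSMul_iff.2 fun g hg => ?_
      refine mem_bot.1 (hk ▸ (MonoidHom.mem_ker.2 (Equiv.ext fun x => ?_) : g ∈ (MulAction.toPermHom G X).ker))
      have h1 := hg (e x)
      rw [hsmul, e.symm_apply_apply, e.apply_eq_iff_eq] at h1
      exact h1
    · exfalso
      obtain ⟨a, b, hab⟩ := exists_pair_ne X
      obtain ⟨g, hga, -⟩ := h2 hab hab.symm
      have hg : MulAction.toPermHom G X g = 1 := MonoidHom.mem_ker.1 (hk ▸ mem_top g)
      exact hab (((Equiv.ext_iff.1 hg) a).symm.trans hga)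
  refine hno (Fin (Nat.card X)) (MulAction.is_two_pretransitive_iff.2 fun {a b c d} hab hcd => ?_)
  obtain ⟨g, h1, h3⟩ := h2 (e.symm.injective.ne hab) (e.symm.injective.ne hcd)
  exact ⟨g, by rw [hsmul, h1, e.apply_symm_apply], by rw [hsmul, h3, e.apply_symm_apply]⟩

/-- `PSL(2, F)` has a doubly transitive action. -/
theorem psl_false [IsSimpleGroup G]
    (hno : ∀ (Ω : Type) [Fintype Ω] [MulAction G Ω] [FaithfulSMul G Ω], ¬ MulAction.IsMultiplyPretransitive G Ω 2)
    {F : Type} [Field F] [Fintype F] (e : G ≃* Matrix.ProjectiveSpecialLinearGroup (Fin 2) F) : False := by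
  classical
  let P := Projectivization F (Fin 2 → F)
  haveI : Finite P := by
    have : Finite {v : Fin 2 → F // v ≠ 0} := inferInstance
    exact Finite.of_surjective (Projectivization.mk' F) fun p => ⟨⟨p.rep, p.rep_nonzero⟩, p.mk_rep⟩
  letI : MulAction G P := MulAction.compHom P e.toMonoidHom
  haveI : Nontrivial P := by
    refine ⟨Projectivization.mk F ![1, 0] (fun h => by simpa using congrFun h 0),
      Projectivization.mk F ![0, 1] (fun h => by simpa using congrFun h 1), fun h => ?_⟩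
    obtain ⟨c, hc⟩ := (Projectivization.mk_eq_mk_iff' F _ _ _ _).1 h
    simpa using congrFun hc 0
  refine false_of_two_trans hno P (MulAction.is_two_pretransitive_iff.2 fun {a b c d} hab hcd => ?_)
  haveI h2 : MulAction.IsMultiplyPretransitive (Matrix.SpecialLinearGroup (Fin 2) F) P 2 := inferInstance
  obtain ⟨g, h1, h3⟩ := MulAction.is_two_pretransitive_iff.1 h2 hab hcd
  refine ⟨e.symm (g : Matrix.ProjectiveSpecialLinearGroup (Fin 2) F), ?_, ?_⟩
  · show e (e.symm (g : Matrix.ProjectiveSpecialLinearGroup (Fin 2) F)) • a = c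
    rw [e.apply_symm_apply]; exact h1
  · show e (e.symm (g : Matrix.ProjectiveSpecialLinearGroup (Fin 2) F)) • b = d
    rw [e.apply_symm_apply]; exact h3

/-- If an irreducible character of degree `|G : B| - 1` of a perfect group has a nonzero sum over `R ⊴ B` with
`B / R` abelian, then the cosets of `B` carry a doubly transitive action. -/
theorem two_trans_of_char [Fintype G] (hperf : ∀ f : G →* ℂˣ, f = 1) {B R : Subgroup G} (hRB : R ≤ B)
    (hcomm : ∀ a ∈ B, ∀ b ∈ B, a * b * a⁻¹ * b⁻¹ ∈ R) [Fintype R] (c : IrrCharacter G)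
    (hdeg : deg (c : G → ℂ) + 1 = B.index) (h1 : 1 < deg (c : G → ℂ))
    (hsum : ∑ x : R, (c : G → ℂ) x ≠ 0) : MulAction.IsMultiplyPretransitive G (G ⧸ B) 2 := by
  classical
  letI : Fintype B := Fintype.ofFinite B
  set N : Subgroup B := R.subgroupOf B with hN
  haveI : N.Normal := ⟨fun x hx b => mem_subgroupOf.2 (by
    have h : (b : G) * x * (b : G)⁻¹ = ((b : G) * x * (b : G)⁻¹ * (x : G)⁻¹) * x := by group
    push_cast
    rw [h]
    exact R.mul_mem (hcomm b b.2 x x.2) (mem_subgroupOf.1 hx))⟩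
  letI : Fintype N := Fintype.ofFinite N
  -- a linear constituent of the restriction
  set cB : B → ℂ := fun b => (c : G → ℂ) b with hcB
  have hcBc : IsCharacter B cB := IsCharacter.restrict (isCharacter_of_irr c.2) B
  obtain ⟨m, hm, hmi, -⟩ := exists_degree_decomp hcBc
  obtain ⟨ψ, hψm, hψN⟩ : ∃ ψ : IrrCharacter B, m ψ ≠ 0 ∧ ∑ x : N, (ψ : B → ℂ) x ≠ 0 := by
    by_contra hcon
    push Not at hcon
    refine hsum ?_
    have he : ∑ x : R, (c : G → ℂ) x = ∑ x : N, cB x := by
      refine (Fintype.sum_equiv (subgroupOfEquivOfLe hRB).toEquiv _ _ fun x => ?_).symm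
      rfl
    rw [he, hm]
    simp only
    rw [Finset.sum_comm]
    refine Finset.sum_eq_zero fun φ _ => ?_
    rw [← Finset.mul_sum]
    by_cases h : m φ = 0
    · simp [h]
    · rw [hcon φ h, mul_zero]
  obtain ⟨k, -, hk⟩ := restrict_eq_mult_of_invariant (N := N) ψ.2 isIrrCharacter_one (fun g => rfl) (by
    rw [classInner_def]
    simpa [Nat.card_pos.ne'] using hψN)
  have hker : ∀ x ∈ N, (ψ : B → ℂ) x = (ψ : B → ℂ) 1 := fun x hx => by
    have e1 := congrFun hk ⟨x, hx⟩
    have e2 := congrFun hk 1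
    simp only [Pi.smul_apply, OneMemClass.coe_one] at e1 e2
    rw [e1, e2]
  have hψ1 : (ψ : B → ℂ) 1 = 1 := by
    obtain ⟨f, hf, hff⟩ := exists_factor (QuotientGroup.mk' N) (QuotientGroup.mk'_surjective N)
      (isCharacter_of_irr ψ.2) (by rw [QuotientGroup.ker_mk']; exact hker)
    have hab : ∀ x y : B ⧸ N, x * y = y * x := by
      intro x y
      obtain ⟨a, rfl⟩ := QuotientGroup.mk'_surjective N x
      obtain ⟨b, rfl⟩ := QuotientGroup.mk'_surjective N y
      rw [← map_mul, ← map_mul]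
      refine ((QuotientGroup.mk'_eq_mk' N).2 ⟨(b * a)⁻¹ * (a * b), mem_subgroupOf.2 ?_, mul_inv_cancel_left _ _⟩).symm
      push_cast
      rw [show ((b : G) * a)⁻¹ * ((a : G) * b) = (a : G)⁻¹ * (b : G)⁻¹ * ((a : G)⁻¹)⁻¹ * ((b : G)⁻¹)⁻¹ by group]
      exact hcomm _ (inv_mem a.2) _ (inv_mem b.2)
    letI : Fintype (B ⧸ N) := Fintype.ofFinite _
    have hfi : IsIrrCharacter (B ⧸ N) f :=
      irr_of_comp_irr hf (QuotientGroup.mk' N) (by rw [← hff]; exact ψ.2)
    rw [hff]
    simp only [map_one]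
    exact irr_deg_one_of_comm hab hfi
  -- the induced character
  set θ : B → ℂ := (ψ : B → ℂ) with hθ
  have hI : IsCharacter G (indFun B θ) := IsCharacter.indFun (isCharacter_of_irr ψ.2)
  obtain ⟨M, hM, hMi, -⟩ := exists_degree_decomp hI
  have hMc : M c = m ψ := by
    apply Nat.cast_injective (R := ℂ)
    rw [← hMi c, frobenius_reciprocity B θ (isClassFunction_irr c), ← classInner_conj_symm, hmi ψ,
      Complex.conj_natCast]
  have hsumM : ∑ φ, M φ * deg (φ : G → ℂ) = deg (c : G → ℂ) + 1 := by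
    apply Nat.cast_injective (R := ℂ)
    rw [hdeg]
    have h := indFun_one B θ
    rw [hψ1, mul_one, congrFun hM 1] at h
    push_cast
    rw [← h]
    exact Finset.sum_congr rfl fun φ _ => by rw [irr_apply_one_eq_deg]
  rw [← Finset.add_sum_erase _ _ (Finset.mem_univ c)] at hsumM
  have hc1 : M c = 1 := by
    have h0 : M c ≠ 0 := hMc ▸ hψm
    by_contra hne
    have : 2 * deg (c : G → ℂ) ≤ M c * deg (c : G → ℂ) := Nat.mul_le_mul_right _ (by omega)
    omega
  rw [hc1, one_mul] at hsumM
  have hrest : ∑ φ ∈ Finset.univ.erase c, M φ * deg (φ : G → ℂ) = 1 := by omega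
  obtain ⟨φ, hφmem, hφ0⟩ := Finset.exists_ne_zero_of_sum_ne_zero (hrest.trans_ne one_ne_zero)
  have hle : M φ * deg (φ : G → ℂ) ≤ 1 :=
    hrest ▸ Finset.single_le_sum (f := fun χ : IrrCharacter G => M χ * deg (χ : G → ℂ))
      (fun χ _ => Nat.zero_le _) hφmem
  have hφ1 : M φ = 1 ∧ deg (φ : G → ℂ) = 1 := mul_eq_one.1 (le_antisymm hle (Nat.pos_of_ne_zero hφ0))
  have hφone : (φ : G → ℂ) = fun _ => 1 := by
    obtain ⟨f, hf⟩ := exists_hom_of_deg_one (isCharacter_of_irr φ.2) (by
      rw [irr_apply_one_eq_deg, hφ1.2, Nat.cast_one])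
    rw [hf, hperf f]
    rfl
  have hothers : ∀ χ, χ ≠ c → χ ≠ φ → M χ = 0 := by
    intro χ hc' hφ'
    have h := Finset.add_sum_erase (Finset.univ.erase c) (fun χ : IrrCharacter G => M χ * deg (χ : G → ℂ)) hφmem
    simp only [hφ1.1, hφ1.2, hrest] at h
    have h0 : ∑ χ ∈ (Finset.univ.erase c).erase φ, M χ * deg (χ : G → ℂ) = 0 := by omega
    exact (mul_eq_zero.1 (Finset.sum_eq_zero_iff.1 h0 χ (by simp [hc', hφ']))).resolve_right
      (deg_irr_pos χ).ne'
  have hcφ : c ≠ φ := fun h => by rw [h, hφ1.2] at h1; omega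
  have hI' : indFun B θ = (c : G → ℂ) + (φ : G → ℂ) := by
    rw [hM]
    funext g
    rw [Fintype.sum_eq_add c φ hcφ fun χ hχ => by rw [hothers χ hχ.1 hχ.2, Nat.cast_zero, zero_mul]]
    simp [hc1, hφ1.1]
  -- the linear constituent is trivial
  have hθ1 : θ = fun _ => 1 := by
    have h : classInner θ (fun b : B => (φ : G → ℂ) b) ≠ 0 := by
      rw [← frobenius_reciprocity B θ (isClassFunction_irr φ), hI', classInner_add_left, classInner_irr_ne hcφ,
        classInner_irr_self, zero_add]
      exact one_ne_zero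
    rw [hφone] at h
    by_contra hne
    exact h (classInner_irr_ne (χ := ψ) (ψ := ⟨_, isIrrCharacter_one⟩) fun e => hne (congrArg Subtype.val e))
  have hperm : permChar G (G ⧸ B) = (c : G → ℂ) + (φ : G → ℂ) := by
    rw [← Cfsg.Lib.BenderSE.CountPair.indFun_one_eq_permChar, ← hθ1, hI']
  -- two orbits on pairs
  have horb : Nat.card (MulAction.orbitRel.Quotient G ((G ⧸ B) × (G ⧸ B))) = 2 := by
    apply Nat.cast_injective (R := ℂ)
    rw [← classInner_permChar_self, hperm, classInner_add_left, classInner_add_right, classInner_add_right,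
      classInner_irr_self, classInner_irr_self, classInner_irr_ne hcφ, classInner_irr_ne hcφ.symm]
    norm_num
  refine MulAction.is_two_pretransitive_iff.2 fun {a b x y} hab hxy => ?_
  obtain ⟨o, o', -, huniv⟩ := Nat.card_eq_two_iff.1 horb
  have hdiag : ∀ p q : G ⧸ B, p ≠ q → (⟦(p, q)⟧ : MulAction.orbitRel.Quotient G _) ≠ ⟦(a, a)⟧ := by
    intro p q hpq h
    obtain ⟨g, hg⟩ := Quotient.exact h
    exact hpq ((congrArg Prod.fst hg).symm.trans (congrArg Prod.snd hg))
  have hmem : ∀ z : MulAction.orbitRel.Quotient G ((G ⧸ B) × (G ⧸ B)), z = o ∨ z = o' := fun z => by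
    have hz : z ∈ ({o, o'} : Set _) := huniv ▸ Set.mem_univ z
    simpa using hz
  have heq : (⟦(x, y)⟧ : MulAction.orbitRel.Quotient G _) = ⟦(a, b)⟧ := by
    have h1' := hdiag a b hab
    have h2' := hdiag x y hxy
    rcases hmem ⟦(a, a)⟧ with e | e <;> rcases hmem ⟦(a, b)⟧ with f | f <;> rcases hmem ⟦(x, y)⟧ with g | g <;>
      simp_all
  obtain ⟨g, hg⟩ := Quotient.exact heq
  exact ⟨g, congrArg Prod.fst hg, congrArg Prod.snd hg⟩

end Cfsg.Lib.NoTwoTrans
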